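import Groth.Agent.Gaga.H973.PnTw
import Groth.Agent.Gaga.H973.GenAn
import Groth.Agent.Gaga.H883.Serre
import Groth.Agent.VarietyB.GGStalk

/-!
# Twists of algebraic modules on `P^n(ℂ)` are algebraic; Serre's theorem for them
-/

set_option autoImplicit false
set_option linter.dupNamespace false
set_option linter.unusedVariables false

open CategoryTheory TopologicalSpace Opposite AlgebraicGeometry

noncomputable section

namespace Groth.Agent.Gaga.H973.PnAlg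

open Groth.Agent.Gaga.H975.ModSec Groth.Agent.Gaga.H975.AnSec Groth.Agent.Gaga.H973.Tw Groth.Agent.Gaga.H973.TwEquiv
open Groth.Agent.Gaga.H973.FrameCoc Groth.Agent.Gaga.H973.AnCoc Groth.Agent.Gaga.H973.PnFr Groth.Agent.Gaga.H973.PnTw
open Groth.Agent.Gaga.H986.Stalk Groth.Agent.Gaga.H976.Defs Groth.Agent.Gaga.H979.ThmA

variable (n : ℕ)

/-- `M(k)` on projective space. -/
abbrev tM (M : (P n).Modules) (k : ℤ) : (P n).Modules := CohB1.tensorMod M (Twist.twistProjSpace n ℂ k)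

/-- Analytification commutes with the twist. -/
def TWAN : Prop := Nonempty ((show (P n).Modules ⥤ (P n).Modules from Tw (fr n).coc) ⋙ An.analytify (P n) ≅
  An.analytify (P n) ⋙ Tw (anCoc (fr n).coc))

/-- The twist is the tensor product with `O(1)`. -/
def TWTENS : Prop := ∀ M : (P n).Modules,
  Nonempty (twObj (T := spc (P n)) (R := (P n).sheaf) (fr n).coc M ≅ tM n M 1)

variable {n}

theorem nonempty_F (h1 : TWAN n) (h2 : TWTENS n) (M : (P n).Modules) :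
    Nonempty ((W n).e.functor.obj ((An.analytify (P n)).obj M) ≅ (An.analytify (P n)).obj (tM n M 1)) := by
  obtain ⟨a⟩ := h1
  obtain ⟨b⟩ := h2 M
  exact ⟨(a.app M).symm ≪≫ (An.analytify (P n)).mapIso b⟩

theorem nonempty_tw (h1 : TWAN n) (h2 : TWTENS n) (M : (P n).Modules) (j : ℕ) :
    Nonempty ((W n).tw j ((An.analytify (P n)).obj M) ≅ (An.analytify (P n)).obj (tM n M (j : ℤ))) := by
  induction j with
  | zero =>
    obtain ⟨e⟩ := Groth.Agent.Gaga.H883.Serre.tw_zero n ℂ M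
    exact ⟨(An.analytify (P n)).mapIso e.symm⟩
  | succ j ih =>
    obtain ⟨a⟩ := ih
    obtain ⟨b⟩ := nonempty_F h1 h2 (tM n M (j : ℤ))
    obtain ⟨e⟩ := Groth.Agent.Gaga.H883.Serre.tw_tw n ℂ (j : ℤ) 1 M
    exact ⟨(W n).e.functor.mapIso a ≪≫ b ≪≫ (An.analytify (P n)).mapIso e⟩

/-- The inverse twist of an algebraic module is algebraic. -/
theorem alg_G (h1 : TWAN n) (h2 : TWTENS n) {N : An.AnMod (P n)} (h : Alg N) :
    Alg (X := P n) ((W n).e.inverse.obj N) := by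
  obtain ⟨M, hM, ⟨i⟩⟩ := h
  obtain ⟨b⟩ := nonempty_F h1 h2 (tM n M (-1))
  obtain ⟨e⟩ := Groth.Agent.Gaga.H883.Serre.tw_tw n ℂ (-1) 1 M
  obtain ⟨e0⟩ := Groth.Agent.Gaga.H883.Serre.tw_zero n ℂ M
  have e' : tM n (tM n M (-1)) 1 ≅ M := e ≪≫ eqToIso (by rw [neg_add_cancel]) ≪≫ e0
  refine ⟨tM n M (-1), Groth.Agent.Gaga.H883.Serre.isCoh_tw n ℂ hM (-1), ⟨?_⟩⟩
  exact (W n).e.unitIso.app _ ≪≫ (W n).e.inverse.mapIso (b ≪≫ (An.analytify (P n)).mapIso e' ≪≫ i)

theorem genAt_tM (M : (P n).Modules) (h : Curv2.IsGloballyGenerated M) (x : An.Pts (P n)) :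
    GenAt (R := An.hol (P n)) ((An.analytify (P n)).obj M) x :=
  Groth.Agent.Gaga.H973.GenAn.genAt_analytify M x
    ((Groth.Agent.VarietyB.GGStalk.isGloballyGenerated_iff_span M).1 h x.pt)

/-- Serre's theorem for the twists of algebraic modules, from a vanishing property. -/
theorem serre (h1 : TWAN n) (h2 : TWTENS n) (V : An.AnMod (P n) → Prop)
    (hV : ∀ {N N' : An.AnMod (P n)}, (N ≅ N') → V N → V N')
    (hS : ∀ M : (P n).Modules, Coh.IsCoh M → ∃ k₀ : ℕ, ∀ k : ℕ, k₀ ≤ k → V ((An.analytify (P n)).obj (tM n M (k : ℤ))))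
    {N : An.AnMod (P n)} (h : Alg N) :
    ∃ j₀ : ℕ, ∀ j, j₀ ≤ j → V ((W n).tw j N) ∧ ∀ x, GenAt (R := An.hol (P n)) ((W n).tw j N) x := by
  obtain ⟨M, hM, ⟨i⟩⟩ := h
  obtain ⟨k₀, hk⟩ := hS M hM
  obtain ⟨m₀, hm⟩ := Groth.Agent.Gaga.H883.Serre.exists_globGen n ℂ hM
  refine ⟨max k₀ m₀, fun j hj => ?_⟩
  obtain ⟨a⟩ := nonempty_tw h1 h2 M j
  have b : (W n).tw j N ≅ (An.analytify (P n)).obj (tM n M (j : ℤ)) := (W n).twIso i.symm j ≪≫ a
  refine ⟨hV b.symm (hk j (le_trans (le_max_left _ _) hj)), fun x => ?_⟩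
  exact GenAt.of_iso b.symm (genAt_tM _ (hm j (by exact_mod_cast le_trans (le_max_right _ _) hj)) x)

end Groth.Agent.Gaga.H973.PnAlg
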