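import Groth.Agent.Gaga.H973.PnAlg
import Groth.Agent.Gaga.H883.TwTens

/-!
# The twist on `P^n` is the tensor product with `O(1)`
-/

set_option autoImplicit false
set_option linter.dupNamespace false
set_option linter.unusedVariables false

open CategoryTheory TopologicalSpace Opposite AlgebraicGeometry

noncomputable section

namespace Groth.Agent.Gaga.H973.PnTens

open Groth.Agent.Gaga.H975.ModSec Groth.Agent.Gaga.H973.Tw
open Groth.Agent.Gaga.H973.FrameCoc Groth.Agent.Gaga.H973.AnCoc Groth.Agent.Gaga.H973.PnFr Groth.Agent.Gaga.H973.PnAlg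

theorem twTens (n : ℕ) : TWTENS n := fun M =>
  Groth.Agent.Gaga.H883.TwTens.tw_tensor (X := P n) (𝒰 := cov n) (fr n).coc (L1 n) (fr n).e
    (fun i W hi => (fr n).bij i W hi) (fun i j W hi hj => (fr n).res_e i j hi hj) M

end Groth.Agent.Gaga.H973.PnTens
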