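import Groth.Agent.Gaga.H975.DIso
import Groth.Agent.Gaga.H975.BridgePt
import Groth.Agent.Gaga.H364.ProjRed
import Groth.Agent.Gaga.H335.PnChart
import Groth.Agent.Gaga.H989.OAnInst
import Groth.Agent.CohtopA.Flasque

/-!
# Serre's vanishing theorem for `H^q(P^n(ℂ), M(k)^an)`
-/

set_option autoImplicit false
set_option linter.dupNamespace false
set_option linter.unusedVariables false

open CategoryTheory TopologicalSpace Opposite AlgebraicGeometry

noncomputable section

namespace Groth.Agent.Gaga.H973.VanC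

open Groth.Agent.Gaga.H41.Ind Groth.Agent.Gaga.H975 Groth.Agent.Gaga.H975.BridgePt
open Groth.Agent.Gaga.H988.PnInst Groth.Agent.Gaga.H988.Base

/-- A sheaf all whose classes near the whole space die has no cohomology. -/
theorem subsingleton_of_indZero {T : TopCat.{0}} (F : CohTop.Ab T) (q : ℕ) (K : Set T) (hK : K = Set.univ)
    (h : IndZero F K q) : Subsingleton (Sheaf.H F q) := by
  subst hK
  have h1 : ∀ a : CohTop.HU F q ⊤, a = 0 := by
    intro a
    obtain ⟨V, hV, hKV, h0⟩ := h ⊤ (fun _ _ => trivial) a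
    have hVt : V = ⊤ := by
      ext x
      exact ⟨fun _ => trivial, fun _ => hKV trivial⟩
    subst hVt
    rw [← h0]
    exact (Groth.Agent.CohtopA.MVElem.res_self F q _ a).symm
  have h2 : Subsingleton (CohTop.HU F q ⊤) := ⟨fun a b => (h1 a).trans (h1 b).symm⟩
  exact (Groth.Agent.CohtopA.Flasque.HTopEquiv F q).toEquiv.subsingleton

attribute [local instance] overSelf

/-- The structure on `Spec ℂ` is standard. -/
theorem stdB : StdB ℂ := stdB_id

attribute [local instance] stdB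

/-- **Serre's vanishing theorem** on `P^n(ℂ)`. -/
theorem van (n : ℕ) {M : (CohB1.ProjSpace n ℂ).Modules} (hM : Coh.IsCoh M) :
    ∃ k₀ : ℕ, ∀ k : ℕ, k₀ ≤ k → ∀ q : ℕ, 1 ≤ q → Subsingleton (An.AnMod.H ((An.analytify (CohB1.ProjSpace n ℂ)).obj
      (CohB1.tensorMod M (Twist.twistProjSpace n ℂ (k : ℤ)))) q) := by
  have : T2Space (An.top (CohB1.ProjSpace n ℂ)) := inferInstanceAs (T2Space (An.Pts (CohB1.ProjSpace n ℂ)))
  have : IsReduced (CohB1.ProjSpace n ℂ) := Groth.Agent.Gaga.H364.ProjRed.isReduced_projSpace n ℂ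
  have hC1 : ∀ k : ℤ, 0 ≤ k → DIso.Acyc n ℂ (Twist.twistProjSpace n ℂ k) := fun k hk q hq y =>
    Groth.Agent.Gaga.H989.OAnInst.acyc (n := n) coordC (by omega) q hq y
  obtain ⟨k₀, h⟩ := DIso.exists_indZero_tw hC1 hM
  refine ⟨k₀, fun k hk q hq => ?_⟩
  refine subsingleton_of_indZero _ q _ ?_ (h (k : ℤ) (by exact_mod_cast hk) q hq (show An.Pts An.SC from pnt))
  ext x
  exact ⟨fun _ => trivial, fun _ => eq_pnt _⟩

end Groth.Agent.Gaga.H973.VanC
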